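import Mathlib.RingTheory.Spectrum.Prime.Topology
import Mathlib.RingTheory.Localization.Away.Basic
import Mathlib.RingTheory.Nakayama
import Mathlib.RingTheory.Ideal.Operations

/-!
# Clopen subsets of the complement of a finitely generated ideal: algebra

For a map `φ : A → B` which is bijective modulo all powers of `I`, a partition of the complement of `V(IB)` is
approximated by elements of `A`.
-/

universe u v

open PrimeSpectrum

namespace Groth.Agent.Lib.Henselian.Gabber.Algebra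

variable {A B : Type u} [CommRing A] [CommRing B] (φ : A →+* B) (I : Ideal A)

/-- `φ` is bijective modulo all powers of `I`. -/
structure Approx : Prop where
  surj : ∀ (n : ℕ) (b : B), ∃ a : A, b - φ a ∈ (I ^ n).map φ
  inj : ∀ n : ℕ, ((I ^ n).map φ).comap φ ≤ I ^ n

/-- A partition of the complement of `V(I)` into two open subsets. -/
structure Split (C₀ C₁ : Set (PrimeSpectrum A)) : Prop where
  isOpen₀ : IsOpen C₀
  isOpen₁ : IsOpen C₁
  disj : Disjoint C₀ C₁
  union : C₀ ∪ C₁ = (zeroLocus (I : Set A))ᶜ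

variable {φ I}

theorem Split.symm {C₀ C₁ : Set (PrimeSpectrum A)} (h : Split I C₀ C₁) : Split I C₁ C₀ :=
  ⟨h.isOpen₁, h.isOpen₀, h.disj.symm, Set.union_comm C₀ C₁ ▸ h.union⟩

theorem Split.mem_or {C₀ C₁ : Set (PrimeSpectrum A)} (h : Split I C₀ C₁) {P : PrimeSpectrum A}
    (hP : ¬ I ≤ P.asIdeal) : P ∈ C₀ ∨ P ∈ C₁ := by
  have : P ∈ C₀ ∪ C₁ := h.union ▸ hP
  exact this

theorem Approx.exists_of_mem_map (h : Approx φ I) {K : Ideal A} (n : ℕ) {b : B} (hb : b ∈ K.map φ) :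
    ∃ a ∈ K, b - φ a ∈ (I ^ n).map φ := by
  induction hb using Submodule.span_induction with
  | mem x hx =>
    obtain ⟨a, ha, rfl⟩ := hx
    exact ⟨a, ha, by simp⟩
  | zero => exact ⟨0, zero_mem _, by simp⟩
  | add x y _ _ hx hy =>
    obtain ⟨a, ha, hxa⟩ := hx
    obtain ⟨a', ha', hya⟩ := hy
    exact ⟨a + a', add_mem ha ha', by rw [map_add, add_sub_add_comm]; exact add_mem hxa hya⟩
  | smul c x _ hx =>
    obtain ⟨a, ha, hxa⟩ := hx
    obtain ⟨c', hc'⟩ := h.surj n c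
    refine ⟨c' * a, Ideal.mul_mem_left _ _ ha, ?_⟩
    rw [smul_eq_mul, map_mul, show c * x - φ c' * φ a = c * (x - φ a) + (c - φ c') * φ a by ring]
    exact add_mem (Ideal.mul_mem_left _ _ hxa) (Ideal.mul_mem_right _ _ hc')

/-- Points outside `V(I)` can be moved upstairs. -/
theorem exists_prime_above (h : Approx φ I) (hI : I.FG) (k : PrimeSpectrum A) (Q : PrimeSpectrum B)
    (hIQ : I.map φ ≤ Q.asIdeal) (hkQ : k.asIdeal ≤ Q.asIdeal.comap φ) (hk : ¬ I ≤ k.asIdeal) :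
    ∃ P : PrimeSpectrum B, P.asIdeal ≤ Q.asIdeal ∧ k.asIdeal ≤ P.asIdeal.comap φ ∧ ¬ I ≤ P.asIdeal.comap φ := by
  classical
  by_contra hne
  have hne' : ∀ P : PrimeSpectrum B, P.asIdeal ≤ Q.asIdeal → k.asIdeal ≤ P.asIdeal.comap φ →
      I ≤ P.asIdeal.comap φ := fun P h1 h2 => by_contra fun h3 => hne ⟨P, h1, h2, h3⟩
  have key : ∀ f ∈ I, ∃ n : ℕ, ∃ s : B, s ∉ Q.asIdeal ∧ φ f ^ n * s ∈ k.asIdeal.map φ := by
    intro f hf
    by_contra hc
    have hc' : ∀ (n : ℕ) (s : B), s ∉ Q.asIdeal → φ f ^ n * s ∉ k.asIdeal.map φ :=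
      fun n s hs hmem => hc ⟨n, s, hs, hmem⟩
    let S : Submonoid B := Submonoid.powers (φ f) ⊔ Q.asIdeal.primeCompl
    have hd : Disjoint ((k.asIdeal.map φ : Ideal B) : Set B) (S : Set B) := by
      rw [Set.disjoint_left]
      intro x hx hxS
      obtain ⟨_, ⟨n, rfl⟩, s, hs, rfl⟩ := Submonoid.mem_sup.mp hxS
      exact hc' n s hs hx
    obtain ⟨P, hP, hkP, hPS⟩ := Ideal.exists_le_prime_disjoint _ S hd
    have h1 : P ≤ Q.asIdeal := fun x hx => by
      by_contra hxQ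
      exact Set.disjoint_left.mp hPS hx (Submonoid.mem_sup_right hxQ)
    exact Set.disjoint_left.mp hPS (hne' ⟨P, hP⟩ h1 (Ideal.map_le_iff_le_comap.mp hkP) hf)
      (Submonoid.mem_sup_left (Submonoid.mem_powers _))
  let K : Ideal B :=
    { carrier := {x | ∃ s ∉ Q.asIdeal, x * s ∈ k.asIdeal.map φ}
      add_mem' := by
        rintro x y ⟨s, hs, hx⟩ ⟨t, ht, hy⟩
        refine ⟨s * t, Q.isPrime.mul_notMem hs ht, ?_⟩
        rw [show (x + y) * (s * t) = x * s * t + y * t * s by ring]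
        exact add_mem (Ideal.mul_mem_right _ _ hx) (Ideal.mul_mem_right _ _ hy)
      zero_mem' := ⟨1, fun h1 => Q.isPrime.ne_top ((Ideal.eq_top_iff_one _).mpr h1), by simp⟩
      smul_mem' := by
        rintro c x ⟨s, hs, hx⟩
        exact ⟨s, hs, by rw [smul_eq_mul, mul_assoc]; exact Ideal.mul_mem_left _ _ hx⟩ }
  obtain ⟨M, hM⟩ := Ideal.exists_pow_le_of_le_radical_of_fg
    (show I.map φ ≤ K.radical from Ideal.map_le_iff_le_comap.mpr fun f hf => by
      obtain ⟨n, s, hs, hn⟩ := key f hf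
      exact ⟨n, s, hs, hn⟩) (hI.map φ)
  obtain ⟨T, hT⟩ := hI.pow (n := M)
  have hTK : ∀ x : T, ∃ s ∉ Q.asIdeal, φ x * s ∈ k.asIdeal.map φ := fun x => hM (by
    rw [← Ideal.map_pow]
    exact Ideal.mem_map_of_mem _ (hT ▸ Ideal.subset_span x.2))
  choose s hs hsk using hTK
  let s' := ∏ x, s x
  have hs' : s' ∉ Q.asIdeal := fun h1 => by
    obtain ⟨x, -, hx⟩ := Q.isPrime.prod_mem_iff.mp h1
    exact hs x hx
  obtain ⟨s₀, hs₀⟩ := h.surj (M + 1) s'
  have hs₀Q : s₀ ∉ Q.asIdeal.comap φ := fun h1 => hs' (by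
    have h2 : s' - φ s₀ ∈ Q.asIdeal := hIQ (Ideal.map_mono (Ideal.pow_le_self (by omega)) hs₀)
    simpa using add_mem h2 h1)
  have hx : ∀ x ∈ I ^ M, x * s₀ ∈ k.asIdeal ⊔ I ^ (M + 1) := by
    intro x hx
    rw [← hT] at hx
    induction hx using Submodule.span_induction with
    | mem x hx =>
      have h1 : φ x * s' ∈ k.asIdeal.map φ := by
        have : s ⟨x, hx⟩ ∣ s' := Finset.dvd_prod_of_mem _ (Finset.mem_univ _)
        obtain ⟨c, hc⟩ := this
        rw [hc, ← mul_assoc]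
        exact Ideal.mul_mem_right _ _ (hsk ⟨x, hx⟩)
      obtain ⟨a, ha, hb⟩ := h.exists_of_mem_map (M + 1) h1
      have h2 : x * s₀ - a ∈ I ^ (M + 1) := h.inj _ (by
        rw [Ideal.mem_comap, map_sub, map_mul, show φ x * φ s₀ - φ a = (φ x * s' - φ a) - φ x * (s' - φ s₀) by ring]
        exact sub_mem hb (Ideal.mul_mem_left _ _ hs₀))
      exact Submodule.mem_sup.mpr ⟨a, ha, x * s₀ - a, h2, by ring⟩
    | zero => simp
    | add x y _ _ hx hy => rw [add_mul]; exact add_mem hx hy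
    | smul c x _ hx => rw [smul_eq_mul, mul_assoc]; exact Ideal.mul_mem_left _ _ hx
  let y : Ideal A := Q.asIdeal.comap φ
  have hy : y.IsPrime := Q.isPrime.comap φ
  let L := Localization.AtPrime y
  let α : A →+* L := algebraMap A L
  have hIy : I ≤ y := Ideal.map_le_iff_le_comap.mp hIQ
  have hN : (I ^ M).map α ≤ k.asIdeal.map α ⊔ I.map α • (I ^ M).map α := by
    refine Ideal.map_le_iff_le_comap.mpr fun x hx' => ?_
    obtain ⟨a, ha, c, hc, hac⟩ := Submodule.mem_sup.mp (hx x hx')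
    obtain ⟨w, hw⟩ := (IsLocalization.map_units L (⟨s₀, hs₀Q⟩ : y.primeCompl))
    rw [Ideal.mem_comap]
    have e : α x = ↑w⁻¹ * α (a + c) := by
      rw [hac, map_mul, ← show (w : L) = α s₀ from hw, ← mul_assoc, mul_comm _ (α x), mul_assoc,
        Units.inv_mul, mul_one]
    rw [e, map_add, mul_add]
    refine Submodule.add_mem_sup (Ideal.mul_mem_left _ _ (Ideal.mem_map_of_mem α ha)) ?_
    rw [smul_eq_mul, ← Ideal.map_mul]
    exact Ideal.mul_mem_left _ _ (Ideal.mem_map_of_mem α (pow_succ' I M ▸ hc))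
  have hjac : I.map α ≤ Ideal.jacobson ⊥ := by
    rw [IsLocalRing.jacobson_eq_maximalIdeal _ bot_ne_top, ← Localization.AtPrime.map_eq_maximalIdeal]
    exact Ideal.map_mono hIy
  have hle := Submodule.le_of_le_smul_of_le_jacobson_bot (hI.pow.map α) hjac hN
  have hk' : I ^ M ≤ k.asIdeal := by
    intro x hx'
    have h1 : α x ∈ k.asIdeal.map α := hle (Ideal.mem_map_of_mem α hx')
    obtain ⟨⟨⟨a, ha⟩, s1⟩, hs1⟩ := (IsLocalization.mem_map_algebraMap_iff y.primeCompl L).mp h1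
    obtain ⟨c, hc⟩ := (IsLocalization.eq_iff_exists y.primeCompl L).mp
      (show algebraMap A L (x * s1) = algebraMap A L a by rw [map_mul]; exact hs1)
    have h2 : (c : A) * (x * s1) ∈ k.asIdeal := hc ▸ Ideal.mul_mem_left _ _ ha
    rcases k.isPrime.mem_or_mem h2 with h3 | h3
    · exact absurd (hkQ h3) c.2
    rcases k.isPrime.mem_or_mem h3 with h4 | h4
    · exact h4
    · exact absurd (hkQ h4) s1.2
  exact hk (k.isPrime.le_of_pow_le hk')

/-- A split is given on a basic open by an element with a quadratic relation. -/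
theorem exists_local {C₀ C₁ : Set (PrimeSpectrum A)} (h : Split I C₀ C₁) {g : A} (hg : g ∈ I) :
    ∃ (m : ℕ) (b : A), b ∈ Ideal.span {g} ∧
      ∀ P : PrimeSpectrum A, (P ∈ C₀ → b ∈ P.asIdeal) ∧ (P ∈ C₁ → b - g ^ (m + 1) ∈ P.asIdeal) := by
  let L := Localization.Away g
  let π : PrimeSpectrum L → PrimeSpectrum A := comap (algebraMap A L)
  have hπ : ∀ x, π x ∈ C₀ ∪ C₁ := fun x => by
    rw [h.union]
    intro hx
    have : π x ∈ Set.range π := ⟨x, rfl⟩
    rw [localization_away_comap_range L g] at this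
    exact this (hx hg)
  have hc : IsClopen (π ⁻¹' C₁) := by
    refine ⟨?_, h.isOpen₁.preimage (continuous_comap _)⟩
    rw [← isOpen_compl_iff]
    have e : (π ⁻¹' C₁)ᶜ = π ⁻¹' C₀ := by
      ext x
      exact ⟨fun hx => (hπ x).resolve_right hx, fun hx => Set.disjoint_left.mp h.disj hx⟩
    rw [e]
    exact h.isOpen₀.preimage (continuous_comap _)
  obtain ⟨ε, hε, hεC⟩ := PrimeSpectrum.isClopen_iff.mp hc
  obtain ⟨n, b₀, hb₀⟩ := IsLocalization.Away.surj g ε
  refine ⟨n, g * b₀, Ideal.mul_mem_right _ _ (Ideal.mem_span_singleton_self g), fun P => ?_⟩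
  by_cases hgP : g ∈ P.asIdeal
  · refine ⟨fun _ => Ideal.mul_mem_right _ _ hgP, fun _ => sub_mem (Ideal.mul_mem_right _ _ hgP) ?_⟩
    exact Ideal.pow_mem_of_mem _ hgP _ (Nat.succ_pos n)
  obtain ⟨x, rfl⟩ : P ∈ Set.range π := by
    rw [localization_away_comap_range L g]
    exact hgP
  have hx : π x ∈ C₁ ↔ ε ∉ x.asIdeal := Set.ext_iff.mp hεC x
  constructor
  · intro hP
    have h1 : ε ∈ x.asIdeal := by
      by_contra hε'
      exact Set.disjoint_left.mp h.disj hP (hx.mpr hε')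
    refine Ideal.mul_mem_left _ _ ?_
    show algebraMap A L b₀ ∈ x.asIdeal
    rw [← hb₀]
    exact Ideal.mul_mem_right _ _ h1
  · intro hP
    have h1 : 1 - ε ∈ x.asIdeal := by
      rcases x.isPrime.mem_or_mem (show ε * (1 - ε) ∈ x.asIdeal by
        rw [mul_sub, mul_one, hε.eq, sub_self]; exact zero_mem _) with h2 | h2
      · exact absurd h2 (hx.mp hP)
      · exact h2
    rw [show g * b₀ - g ^ (n + 1) = g * (b₀ - g ^ n) by ring]
    refine Ideal.mul_mem_left _ _ ?_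
    show algebraMap A L (b₀ - g ^ n) ∈ x.asIdeal
    rw [map_sub, ← hb₀, map_pow, show ε * algebraMap A L g ^ n - algebraMap A L g ^ n =
      -((1 - ε) * algebraMap A L g ^ n) by ring]
    exact neg_mem (Ideal.mul_mem_right _ _ h1)

/-- Approximating elements for a split upstairs. -/
theorem exists_approx (h : Approx φ I) (hI : I.FG) {C₀ C₁ : Set (PrimeSpectrum B)}
    (hC : Split (I.map φ) C₀ C₁) :
    ∃ (ι : Type u) (_ : Fintype ι) (a v : ι → A) (b : ι → B) (e : ℕ) (J : Ideal A),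
      J = Ideal.span (Set.range a ∪ Set.range v) ∧ J ≤ I ∧ I ≤ J.radical ∧
      (∀ j k, (a k * (a j - v j)) ^ e ∈ I * J ^ (2 * e)) ∧
      (∀ i, b i - φ (a i) ∈ (I * J).map φ) ∧
      ∀ (P : PrimeSpectrum B) (i : ι), (P ∈ C₀ → b i ∈ P.asIdeal) ∧ (P ∈ C₁ → b i - φ (v i) ∈ P.asIdeal) := by
  classical
  obtain ⟨T, hT⟩ := hI
  have hTI : ∀ i : T, (i : A) ∈ I := fun i => hT ▸ Ideal.subset_span i.2
  choose m b hb hP using fun i : T => exists_local hC (Ideal.mem_map_of_mem φ (hTI i))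
  have hbI : ∀ i, b i ∈ I.map φ := fun i =>
    (Ideal.span_singleton_le_iff_mem _).mpr (Ideal.mem_map_of_mem φ (hTI i)) (hb i)
  let v : T → A := fun i => (i : A) ^ (m i + 1)
  have hv : ∀ i, v i ∈ I := fun i => Ideal.pow_mem_of_mem _ (hTI i) _ (Nat.succ_pos _)
  let J₀ : Ideal A := Ideal.span (Set.range v)
  have hrad : I ≤ J₀.radical := by
    rw [← hT, Ideal.span_le]
    exact fun x hx => ⟨m ⟨x, hx⟩ + 1, Ideal.subset_span ⟨⟨x, hx⟩, rfl⟩⟩
  obtain ⟨N₁, hN₁⟩ := Ideal.exists_pow_le_of_le_radical_of_fg hrad ⟨T, hT⟩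
  have hnil : ∀ p : T × T, IsNilpotent (b p.2 * (b p.1 - φ (v p.1))) := fun p => by
    rw [nilpotent_iff_mem_prime]
    intro P hP'
    let P' : PrimeSpectrum B := ⟨P, hP'⟩
    by_cases hI' : I.map φ ≤ P
    · exact Ideal.mul_mem_right _ _ (hI' (hbI p.2))
    rcases hC.mem_or (P := P') hI' with h0 | h1
    · exact Ideal.mul_mem_right _ _ ((hP p.2 P').1 h0)
    · refine Ideal.mul_mem_left _ _ ?_
      have := (hP p.1 P').2 h1
      rw [← map_pow] at this
      exact this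
  choose ee hee using hnil
  let e := ∑ p, ee p
  let N := N₁ * (2 * e + 1) + 1
  choose a ha using fun i => h.surj N (b i)
  have haI : ∀ i, a i ∈ I := fun i => by
    refine pow_one I ▸ h.inj 1 ?_
    show φ (a i) ∈ (I ^ 1).map φ
    rw [pow_one, ← sub_sub_self (b i) (φ (a i))]
    exact sub_mem (hbI i) (Ideal.map_mono (Ideal.pow_le_self (by simp [N])) (ha i))
  let J := Ideal.span (Set.range a ∪ Set.range v)
  have hJ₀ : J₀ ≤ J := Ideal.span_mono Set.subset_union_right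
  have hIN : I ^ N ≤ I * J ^ (2 * e + 1) := by
    rw [show N = N₁ * (2 * e + 1) + 1 from rfl, pow_succ', pow_mul]
    exact Ideal.mul_mono le_rfl (Ideal.pow_right_mono (hN₁.trans hJ₀) _)
  refine ⟨T, inferInstance, a, v, b, e, J, rfl, ?_, hrad.trans (Ideal.radical_mono hJ₀), fun j k => ?_,
    fun i => ?_, fun P i => ?_⟩
  · rw [Ideal.span_le]
    rintro _ (⟨i, rfl⟩ | ⟨i, rfl⟩)
    · exact haI i
    · exact hv i
  · refine Ideal.mul_mono le_rfl (Ideal.pow_le_pow_right (by omega)) (hIN (h.inj N ?_))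
    have h0 : (b k * (b j - φ (v j))) ^ e = 0 :=
      pow_eq_zero_of_le (Finset.single_le_sum (fun p _ => Nat.zero_le (ee p)) (Finset.mem_univ (j, k))) (hee (j, k))
    have hx : ∀ i, Ideal.Quotient.mk ((I ^ N).map φ) (φ (a i)) = Ideal.Quotient.mk _ (b i) := fun i =>
      (Ideal.Quotient.eq.mpr (ha i)).symm
    rw [Ideal.mem_comap, ← Ideal.Quotient.eq_zero_iff_mem, map_pow φ, map_mul φ, map_sub φ, map_pow, map_mul, map_sub,
      hx, hx, ← map_sub, ← map_mul, ← map_pow, h0, map_zero]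
  · exact Ideal.map_mono (hIN.trans (Ideal.mul_mono le_rfl (Ideal.pow_le_self (by omega)))) (ha i)
  · refine ⟨(hP i P).1, fun h1 => ?_⟩
    rw [map_pow]
    exact (hP i P).2 h1

/-- A split downstairs whose second part is invisible upstairs. -/
theorem exists_small (h : Approx φ I) (hI : I.FG) {C₀ C₁ : Set (PrimeSpectrum A)} (hC : Split I C₀ C₁)
    (hemp : ∀ P : PrimeSpectrum B, comap φ P ∉ C₁) :
    ∃ (ι : Type u) (_ : Fintype ι) (b v : ι → A) (e : ℕ) (J : Ideal A),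
      J = Ideal.span (Set.range b ∪ Set.range v) ∧ J ≤ I ∧ I ≤ J.radical ∧ J.FG ∧
      (∀ i, b i ^ e ∈ I * J ^ e) ∧
      ∀ (P : PrimeSpectrum A) (i : ι), P ∈ C₁ → b i - v i ∈ P.asIdeal := by
  classical
  obtain ⟨T, hT⟩ := hI
  have hTI : ∀ i : T, (i : A) ∈ I := fun i => hT ▸ Ideal.subset_span i.2
  choose m b hb hP using fun i : T => exists_local hC (hTI i)
  have hbI : ∀ i, b i ∈ I := fun i => (Ideal.span_singleton_le_iff_mem _).mpr (hTI i) (hb i)
  let v : T → A := fun i => (i : A) ^ (m i + 1)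
  let J₀ : Ideal A := Ideal.span (Set.range v)
  let J : Ideal A := Ideal.span (Set.range b ∪ Set.range v)
  have hJ₀ : J₀ ≤ J := Ideal.span_mono Set.subset_union_right
  have hJI : J ≤ I := by
    rw [Ideal.span_le]
    rintro _ (⟨i, rfl⟩ | ⟨i, rfl⟩)
    · exact hbI i
    exact Ideal.pow_mem_of_mem _ (hTI i) _ (Nat.succ_pos _)
  have hrad : I ≤ J₀.radical := by
    rw [← hT, Ideal.span_le]
    exact fun x hx => ⟨m ⟨x, hx⟩ + 1, Ideal.subset_span ⟨⟨x, hx⟩, rfl⟩⟩
  obtain ⟨N₁, hN₁⟩ := Ideal.exists_pow_le_of_le_radical_of_fg hrad ⟨T, hT⟩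
  have hnil : ∀ i, IsNilpotent (φ (b i)) := fun i => by
    rw [nilpotent_iff_mem_prime]
    intro P hP'
    let P' : PrimeSpectrum B := ⟨P, hP'⟩
    by_cases hI' : I ≤ P.comap φ
    · exact hI' (hbI i)
    exact (hP i (comap φ P')).1 ((hC.mem_or hI').resolve_right (hemp P'))
  choose ee hee using hnil
  let e := ∑ p, ee p
  have hbN : ∀ (i : T) (n : ℕ), b i ^ e ∈ I ^ n := fun i n => h.inj n (by
    rw [Ideal.mem_comap, map_pow,
      pow_eq_zero_of_le (Finset.single_le_sum (fun p _ => Nat.zero_le (ee p)) (Finset.mem_univ i)) (hee i)]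
    exact zero_mem _)
  refine ⟨T, inferInstance, b, v, e, J, rfl, hJI, hrad.trans (Ideal.radical_mono hJ₀),
    Submodule.fg_span ((Set.finite_range b).union (Set.finite_range v)), fun i => ?_,
    fun P i hP1 => (hP i P).2 hP1⟩
  · exact (show I ^ (N₁ * e + 1) ≤ I * J ^ e by
      rw [pow_succ', pow_mul]; exact Ideal.mul_mono le_rfl (Ideal.pow_right_mono (hN₁.trans hJ₀) _)) (hbN i _)

end Groth.Agent.Lib.Henselian.Gabber.Algebra
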