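import Groth.Agent.Lib.BlowUpExists.Exists
import Groth.Agent.Lib.BlowUpExists.Proper
import Groth.Agent.Lib.Ideal.BlowUp

/-!
# Blow-ups of the spectrum: charts and evaluation at points
-/

universe u

open CategoryTheory CategoryTheory.Limits AlgebraicGeometry TopologicalSpace Opposite
open Groth.Agent.Lib.Ideal

namespace Groth.Agent.Lib.Henselian.Gabber.Blow

variable {A : Type u} [CommRing A] {Y : Scheme.{u}}

/-- The structure map on the sections over an open. -/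
noncomputable def γ (g : Y ⟶ Spec (CommRingCat.of A)) (W : Y.Opens) : A →+* Γ(Y, W) :=
  ((Scheme.ΓSpecIso (CommRingCat.of A)).inv ≫ g.appLE ⊤ W le_top).hom

theorem γ_res (g : Y ⟶ Spec (CommRingCat.of A)) {W W' : Y.Opens} (h : W' ≤ W) :
    (Y.presheaf.map (homOfLE h).op).hom.comp (γ g W) = γ g W' := by
  rw [γ, γ, ← CommRingCat.hom_comp, Category.assoc, Scheme.Hom.appLE_map]

theorem γ_comp {Y' : Scheme.{u}} (p : Y' ⟶ Y) (g : Y ⟶ Spec (CommRingCat.of A)) {W : Y.Opens} {W' : Y'.Opens}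
    (h : W' ≤ p ⁻¹ᵁ W) : (p.appLE W W' h).hom.comp (γ g W) = γ (p ≫ g) W' := by
  rw [γ, γ, ← CommRingCat.hom_comp, Category.assoc, Scheme.Hom.appLE_comp_appLE]

theorem γ_specMap {B : Type u} [CommRing B] (φ : A →+* B) (q : Y ⟶ Spec (CommRingCat.of B)) (W : Y.Opens) :
    γ (q ≫ Spec.map (CommRingCat.ofHom φ)) W = (γ q W).comp φ := by
  have h := Scheme.ΓSpecIso_inv_naturality (CommRingCat.ofHom φ)
  have h' : (Spec.map (CommRingCat.ofHom φ)).appLE ⊤ ⊤ le_top = (Spec.map (CommRingCat.ofHom φ)).appTop := by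
    simp [Scheme.Hom.appLE, Scheme.Hom.appTop]
  rw [γ, γ, ← Scheme.Hom.appLE_comp_appLE q (Spec.map (CommRingCat.ofHom φ)) ⊤ ⊤ W le_top le_top, h',
    ← Category.assoc, ← h, Category.assoc]
  rfl

/-- A section is not invertible at a point iff it lies in the corresponding prime. -/
theorem mem_iff_notMem_basicOpen (g : Y ⟶ Spec (CommRingCat.of A)) {W : Y.Opens} {y : Y} (hy : y ∈ W) (a : A) :
    a ∈ (g.base y : PrimeSpectrum A).asIdeal ↔ y ∉ Y.basicOpen (γ g W a) := by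
  have h : Y.basicOpen (γ g W a) = W ⊓ g ⁻¹ᵁ PrimeSpectrum.basicOpen a := by
    show Y.basicOpen ((g.appLE ⊤ W le_top).hom ((Scheme.ΓSpecIso (CommRingCat.of A)).inv.hom a)) = _
    rw [Scheme.basicOpen_appLE, AlgebraicGeometry.basicOpen_eq_of_affine']
    simp
  rw [h]
  exact ⟨fun ha hy' => hy'.2 ha, fun hn => by_contra fun ha => hn ⟨hy, ha⟩⟩

theorem γ_mem_prime (g : Y ⟶ Spec (CommRingCat.of A)) {W : Y.Opens} (hW : IsAffineOpen W) {y : Y} (hy : y ∈ W)
    (a : A) : γ g W a ∈ (hW.primeIdealOf ⟨y, hy⟩).asIdeal ↔ a ∈ (g.base y : PrimeSpectrum A).asIdeal := by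
  rw [mem_iff_notMem_basicOpen g hy, EffCartier.mem_basicOpen_iff_notMem_prime hW hy, not_not]

theorem appLE_mem_prime {Y' : Scheme.{u}} (p : Y' ⟶ Y) {W : Y.Opens} {W' : Y'.Opens} (hW : IsAffineOpen W)
    (hW' : IsAffineOpen W') (h : W' ≤ p ⁻¹ᵁ W) {z : Y'} (hz : z ∈ W') (s : Γ(Y, W)) :
    (p.appLE W W' h).hom s ∈ (hW'.primeIdealOf ⟨z, hz⟩).asIdeal ↔
      s ∈ (hW.primeIdealOf ⟨p.base z, h hz⟩).asIdeal := by
  rw [← not_iff_not, ← EffCartier.mem_basicOpen_iff_notMem_prime hW',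
    ← EffCartier.mem_basicOpen_iff_notMem_prime hW, Scheme.basicOpen_appLE]
  exact ⟨fun hh => hh.2, fun hh => ⟨hz, hh⟩⟩

theorem prime_mono {W : Y.Opens} (hW : IsAffineOpen W) {y z : Y} (hs : y ⤳ z) (hy : y ∈ W) (hz : z ∈ W) :
    (hW.primeIdealOf ⟨y, hy⟩).asIdeal ≤ (hW.primeIdealOf ⟨z, hz⟩).asIdeal := fun s hs' => by
  by_contra hn
  exact (EffCartier.mem_basicOpen_iff_notMem_prime hW hy s).mp
    (hs.mem_open (Y.basicOpen s).2 ((EffCartier.mem_basicOpen_iff_notMem_prime hW hz s).mpr hn)) hs'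

/-- Affine charts in which an ideal is invertible. -/
def HasCharts (β : Y ⟶ Spec (CommRingCat.of A)) (J : Ideal A) : Prop :=
  ∀ (y : Y) (O : Y.Opens), y ∈ O → ∃ W : Y.affineOpens, y ∈ W.1 ∧ W.1 ≤ O ∧
    ∃ t : Γ(Y, W.1), t ∈ nonZeroDivisors Γ(Y, W.1) ∧ J.map (γ β W.1) = Ideal.span {t}

/-- The blow-up of a finitely generated ideal. -/
theorem exists_blow (J : Ideal A) (hJ : J.FG) :
    ∃ (Y : Scheme.{u}) (β : Y ⟶ Spec (CommRingCat.of A)), IsProper β ∧ HasCharts β J ∧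
      ∀ p : PrimeSpectrum A, ¬ J ≤ p.asIdeal → ∃! y : Y, β.base y = p := by
  let J' : Ideal Γ(Spec (CommRingCat.of A), ⊤) := J.map (Scheme.ΓSpecIso (CommRingCat.of A)).inv.hom
  let K := Scheme.IdealSheafData.ofIdealTop (X := Spec (CommRingCat.of A)) J'
  obtain ⟨Y, β, hb⟩ := BlowUpExists.exists_isBlowUp _ K
  refine ⟨Y, β, ?_, fun y O hy => ?_, fun p hp => ?_⟩
  · refine BlowUpExists.isProper_of_isBlowUp hb fun U => ?_
    rw [Scheme.IdealSheafData.ofIdealTop_ideal]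
    exact (hJ.map _).map _
  · obtain ⟨W, hyW, hWO, t, ht, he⟩ := EffCartier.exists_gen hb.1 y hy
    refine ⟨W, hyW, hWO, t, ht, ?_⟩
    rw [← he, Comap.ideal_comap β K ⟨⊤, isAffineOpen_top _⟩ W le_top,
      Scheme.IdealSheafData.ofIdealTop_ideal]
    simp only [J', Ideal.map_map, γ]
    congr 1
  · have hiso := Ideal.BlowUp.isIso_off_center hb
    have hp' : (p : ↥(Spec (CommRingCat.of A))) ∈ K.support.compl := by
      intro hmem
      refine hp fun a ha => ?_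
      have h1 : (p : ↥(Spec (CommRingCat.of A))) ∈ (K.support : Set ↥(Spec (CommRingCat.of A))) := hmem
      rw [Scheme.IdealSheafData.coe_support_ofIdealTop] at h1
      have h2 := (Scheme.mem_zeroLocus_iff _ _ _).mp h1 _ (Ideal.mem_map_of_mem _ ha)
      rw [AlgebraicGeometry.basicOpen_eq_of_affine] at h2
      exact not_not.mp h2
    let h := (β ∣_ K.support.compl).homeomorph
    obtain ⟨w, hw⟩ := h.surjective ⟨p, hp'⟩
    have key : ∀ w : (β ⁻¹ᵁ K.support.compl), ((h w).1 : ↥(Spec (CommRingCat.of A))) = β.base w.1 := fun w =>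
      morphismRestrict_base_coe β _ w
    refine ⟨w.1, (key w).symm.trans (congrArg Subtype.val hw), fun y hy => ?_⟩
    have hy' : y ∈ β ⁻¹ᵁ K.support.compl := show β.base y ∈ K.support.compl by rw [hy]; exact hp'
    exact congrArg Subtype.val (h.injective (show h ⟨y, hy'⟩ = h w from
      Subtype.ext ((key ⟨y, hy'⟩).trans (hy.trans (congrArg Subtype.val hw).symm))))

end Groth.Agent.Lib.Henselian.Gabber.Blow
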