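import Groth.Agent.Lib.Henselian.Gabber.Algebra
import Groth.Agent.Lib.Henselian.Gabber.Blow
import Groth.Agent.Lib.Henselian.ProperClopen
import Mathlib.RingTheory.AdicCompletion.Completeness

/-!
# Clopen subsets outside the closed subscheme of a henselian pair (Gabber)

Let `φ : A → B` be bijective modulo all powers of the finitely generated ideal `I`, with `(A, I)` henselian
and `IB` in the radical of `B`. A partition of `Spec B ∖ V(IB)` comes from a unique partition of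
`Spec A ∖ V(I)`.
-/

universe u

open CategoryTheory CategoryTheory.Limits AlgebraicGeometry TopologicalSpace PrimeSpectrum
open Groth.Agent.Lib.Ideal

namespace Groth.Agent.Lib.Henselian.Gabber.Main

open Algebra Blow

variable {A B : Type u} [CommRing A] [CommRing B] (φ : A →+* B) (I : Ideal A)

/-- Every point specialises to the closed subscheme. -/
theorem exists_specialization {Y : Scheme.{u}} (β : Y ⟶ Spec (CommRingCat.of A)) [UniversallyClosed β]
    (hjac : I ≤ Ideal.jacobson ⊥) (y : Y) : ∃ z, y ⤳ z ∧ I ≤ (β.base z : PrimeSpectrum A).asIdeal := by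
  obtain ⟨M, hM, hpM⟩ := Ideal.exists_le_maximal _ (β.base y : PrimeSpectrum A).isPrime.ne_top
  let m : PrimeSpectrum A := ⟨M, hM.isPrime⟩
  have hclosed : IsClosed (β.base '' closure {y}) := β.isClosedMap _ isClosed_closure
  have hs : (β.base y : PrimeSpectrum A) ⤳ m := (PrimeSpectrum.le_iff_specializes _ m).mp hpM
  have hmem : (m : ↥(Spec (CommRingCat.of A))) ∈ β.base '' closure {y} :=
    hs.mem_closed hclosed ⟨y, subset_closure rfl, rfl⟩
  obtain ⟨z, hz, hzm⟩ := hmem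
  refine ⟨z, specializes_iff_mem_closure.mpr hz, ?_⟩
  rw [hzm]
  exact hjac.trans (sInf_le (show M ∈ {J : Ideal A | ⊥ ≤ J ∧ J.IsMaximal} from ⟨bot_le, hM⟩))

/-- The generators of a centre in a chart. -/
theorem exists_coords {R : Type u} [CommRing R] {ι : Type u} (γ' : A →+* R) {a v : ι → A} {J : Ideal A}
    (hJ : J = Ideal.span (Set.range a ∪ Set.range v)) {t : R} (ht : t ∈ nonZeroDivisors R)
    (he : J.map γ' = Ideal.span {t}) :
    ∃ c d : ι → R, (∀ i, γ' (a i) = c i * t) ∧ (∀ i, γ' (v i) = d i * t) ∧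
      ∀ P : Ideal R, P ≠ ⊤ → (∀ i, c i ∈ P) → (∀ i, d i ∈ P) → False := by
  have h1 : ∀ x ∈ J, ∃ c, γ' x = c * t := fun x hx => by
    obtain ⟨c, hc⟩ := Ideal.mem_span_singleton'.mp (he ▸ Ideal.mem_map_of_mem γ' hx)
    exact ⟨c, hc.symm⟩
  choose c hc using fun i => h1 (a i) (hJ ▸ Ideal.subset_span (Or.inl ⟨i, rfl⟩))
  choose d hd using fun i => h1 (v i) (hJ ▸ Ideal.subset_span (Or.inr ⟨i, rfl⟩))
  refine ⟨c, d, hc, hd, fun P hP hcP hdP => hP ?_⟩
  have hle : J.map γ' ≤ P * Ideal.span {t} := by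
    rw [hJ, Ideal.map_span, Ideal.span_le]
    rintro _ ⟨_, ⟨i, rfl⟩ | ⟨i, rfl⟩, rfl⟩
    · rw [SetLike.mem_coe, hc i]
      exact Ideal.mul_mem_mul (hcP i) (Ideal.mem_span_singleton_self t)
    · rw [SetLike.mem_coe, hd i]
      exact Ideal.mul_mem_mul (hdP i) (Ideal.mem_span_singleton_self t)
  obtain ⟨q, hq, hqt⟩ := Ideal.mem_mul_span_singleton.mp (hle (he ▸ Ideal.mem_span_singleton_self t))
  rw [Ideal.eq_top_iff_one]
  have : q = 1 := (mul_cancel_right_mem_nonZeroDivisors ht).mp (hqt.trans (one_mul t).symm)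
  exact this ▸ hq

/-- The generator of the centre is invertible off the centre. -/
theorem gen_notMem {Y : Scheme.{u}} {β : Y ⟶ Spec (CommRingCat.of A)} {J : Ideal A} {W : Y.Opens}
    (hW : IsAffineOpen W) {t : Γ(Y, W)} (he : J.map (γ β W) = Ideal.span {t}) {y : Y} (hy : y ∈ W)
    (hJy : ¬ J ≤ (β.base y : PrimeSpectrum A).asIdeal) : t ∉ (hW.primeIdealOf ⟨y, hy⟩).asIdeal := by
  intro ht
  refine hJy fun x hx => (γ_mem_prime β hW hy x).mp ?_
  obtain ⟨c, hc⟩ := Ideal.mem_span_singleton'.mp (he ▸ Ideal.mem_map_of_mem (γ β W) hx)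
  rw [← hc]
  exact Ideal.mul_mem_left _ _ ht

/-- The points near which `a` generates the centre. -/
def G {Y : Scheme.{u}} (β : Y ⟶ Spec (CommRingCat.of A)) (J : Ideal A) (a : A) : Set Y :=
  {z | ∃ W : Y.affineOpens, z ∈ W.1 ∧ J.map (γ β W.1) = Ideal.span {γ β W.1 a}}

theorem isOpen_G {Y : Scheme.{u}} (β : Y ⟶ Spec (CommRingCat.of A)) (J : Ideal A) (a : A) : IsOpen (G β J a) := by
  rw [isOpen_iff_forall_mem_open]
  rintro z ⟨W, hzW, he⟩
  exact ⟨W.1, fun z' hz' => ⟨W, hz', he⟩, W.1.2, hzW⟩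

theorem mem_G_of_notMem {Y : Scheme.{u}} {β : Y ⟶ Spec (CommRingCat.of A)} {J : Ideal A} {a : A}
    {W : Y.Opens} (hW : IsAffineOpen W) {t c : Γ(Y, W)} (he : J.map (γ β W) = Ideal.span {t})
    (hc : γ β W a = c * t) {z : Y} (hz : z ∈ W) (hcz : c ∉ (hW.primeIdealOf ⟨z, hz⟩).asIdeal) : z ∈ G β J a := by
  refine ⟨⟨_, hW.basicOpen c⟩, (EffCartier.mem_basicOpen_iff_notMem_prime hW hz c).mpr hcz, ?_⟩
  have hle : Y.basicOpen c ≤ W := Y.basicOpen_le c
  rw [← γ_res β hle, ← Ideal.map_map, he, Ideal.map_span, Set.image_singleton, RingHom.comp_apply, hc, map_mul]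
  exact (Ideal.span_singleton_mul_left_unit (RingedSpace.isUnit_res_basicOpen _ c) _).symm

theorem exists_unit_of_mem_G {Y : Scheme.{u}} {β : Y ⟶ Spec (CommRingCat.of A)} {J : Ideal A} {a : A} {z : Y}
    (hG : z ∈ G β J a) :
    ∃ W₀ : Y.Opens, z ∈ W₀ ∧ ∀ (W : Y.Opens), W ≤ W₀ → J.map (γ β W) = Ideal.span {γ β W a} := by
  obtain ⟨W₀, hz, he⟩ := hG
  refine ⟨W₀.1, hz, fun W hW => ?_⟩
  rw [← γ_res β hW, ← Ideal.map_map, he, Ideal.map_span, Set.image_singleton, RingHom.comp_apply]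

variable {φ I}

/-- **Existence**: a split upstairs comes from downstairs. -/
theorem exists_split [HenselianRing A I] (hjB : I.map φ ≤ Ideal.jacobson ⊥) (h : Approx φ I) (hI : I.FG)
    {C₀ C₁ : Set (PrimeSpectrum B)} (hC : Split (I.map φ) C₀ C₁) :
    ∃ D₀ D₁ : Set (PrimeSpectrum A), Split I D₀ D₁ ∧
      ∀ P : PrimeSpectrum B, (P ∈ C₁ → comap φ P ∈ D₁) ∧ (P ∈ C₀ → comap φ P ∈ D₀) := by
  obtain ⟨ι, _, a, v, b, e, J, hJ, hJI, hIJ, hcross, hδ, hP⟩ := exists_approx h hI hC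
  have hJfg : J.FG := hJ ▸ Submodule.fg_span ((Set.finite_range a).union (Set.finite_range v))
  obtain ⟨Y, β, hβ, hch, huniq⟩ := exists_blow J hJfg
  let Z : Set Y := β.base ⁻¹' zeroLocus (I : Set A)
  have hIzero : ∀ {z : Y}, z ∈ Z → ∀ {W : Y.Opens} (hW : IsAffineOpen W) (hz : z ∈ W),
      I.map (γ β W) ≤ (hW.primeIdealOf ⟨z, hz⟩).asIdeal := fun {z} hzZ {W} hW hz =>
    Ideal.map_le_iff_le_comap.mpr fun x hx => (γ_mem_prime β hW hz x).mpr (hzZ hx)
  let O₀ : Set Y := ⋃ k, G β J (a k)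
  let O₁ : Set Y := ⋃ j, G β J (a j - v j)
  have hdisj : ∀ z ∈ Z, z ∈ O₀ → z ∉ O₁ := by
    intro z hzZ h0 h1
    obtain ⟨k, hk⟩ := Set.mem_iUnion.mp h0
    obtain ⟨j, hj⟩ := Set.mem_iUnion.mp h1
    obtain ⟨W₀, hz0, he0⟩ := exists_unit_of_mem_G hk
    obtain ⟨W₁, hz1, he1⟩ := exists_unit_of_mem_G hj
    obtain ⟨W, hzW, hle, t, ht, het⟩ := hch z (W₀ ⊓ W₁) ⟨hz0, hz1⟩
    set P := (W.2.primeIdealOf ⟨z, hzW⟩).asIdeal
    have unit_coord : ∀ {x : A}, J.map (γ β W.1) = Ideal.span {γ β W.1 x} →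
        ∃ c, γ β W.1 x = c * t ∧ IsUnit c := fun {x} hx => by
      obtain ⟨c, hc⟩ := Ideal.mem_span_singleton'.mp (het ▸ hx ▸ Ideal.mem_span_singleton_self (γ β W.1 x))
      obtain ⟨d, hd⟩ := Ideal.mem_span_singleton'.mp ((het ▸ hx) ▸ Ideal.mem_span_singleton_self t :
        t ∈ Ideal.span {γ β W.1 x})
      refine ⟨c, hc.symm, IsUnit.of_mul_eq_one d ?_⟩
      exact (mul_cancel_right_mem_nonZeroDivisors ht).mp (by rw [mul_comm c d, mul_assoc, hc, hd, one_mul])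
    obtain ⟨c, hc, hcu⟩ := unit_coord (he0 W.1 (hle.trans inf_le_left))
    obtain ⟨c', hc', hcu'⟩ := unit_coord (he1 W.1 (hle.trans inf_le_right))
    have h2 := Ideal.mem_map_of_mem (γ β W.1) (hcross j k)
    rw [Ideal.map_mul, Ideal.map_pow, het, Ideal.span_singleton_pow, Ideal.mem_mul_span_singleton] at h2
    obtain ⟨w, hw, hwt⟩ := h2
    have h3 : w = (c * c') ^ e := by
      refine (mul_cancel_right_mem_nonZeroDivisors (pow_mem ht (2 * e))).mp (hwt.trans ?_)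
      rw [map_pow, map_mul, hc, hc']
      ring
    exact W.2.primeIdealOf ⟨z, hzW⟩ |>.isPrime.ne_top (Ideal.eq_top_of_isUnit_mem _
      (hIzero hzZ W.2 hzW (h3 ▸ hw)) ((hcu.mul hcu').pow e))
  have hcoord : ∀ (z : Y) (W : Y.Opens) (hW : IsAffineOpen W) (hz : z ∈ W) (t : Γ(Y, W)),
      t ∈ nonZeroDivisors Γ(Y, W) → J.map (γ β W) = Ideal.span {t} →
      ∃ c d : ι → Γ(Y, W), (∀ i, γ β W (a i) = c i * t) ∧ (∀ i, γ β W (v i) = d i * t) ∧
        ((∀ i, c i ∈ (hW.primeIdealOf ⟨z, hz⟩).asIdeal) → z ∈ O₁) ∧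
        ((∀ i, c i - d i ∈ (hW.primeIdealOf ⟨z, hz⟩).asIdeal) → z ∈ O₀) := by
    intro z W hW hz t ht het
    obtain ⟨c, d, hc, hd, hne⟩ := exists_coords (γ β W) hJ ht het
    set P := (hW.primeIdealOf ⟨z, hz⟩).asIdeal
    have hPne : P ≠ ⊤ := (hW.primeIdealOf ⟨z, hz⟩).isPrime.ne_top
    refine ⟨c, d, hc, hd, fun hall => ?_, fun hall => ?_⟩
    · obtain ⟨j, hj⟩ : ∃ j, c j - d j ∉ P := by
        by_contra hn
        push Not at hn
        exact hne P hPne hall fun i => by simpa using sub_mem (hall i) (hn i)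
      exact Set.mem_iUnion.mpr ⟨j, mem_G_of_notMem hW het (by rw [map_sub, hc, hd, sub_mul]) hz hj⟩
    · obtain ⟨k, hk⟩ : ∃ k, c k ∉ P := by
        by_contra hn
        push Not at hn
        exact hne P hPne hn fun i => by simpa using sub_mem (hn i) (hall i)
      exact Set.mem_iUnion.mpr ⟨k, mem_G_of_notMem hW het (hc k) hz hk⟩
  have hcover : ∀ z ∈ Z, z ∈ O₀ ∨ z ∈ O₁ := by
    intro z hzZ
    obtain ⟨W, hzW, -, t, ht, het⟩ := hch z ⊤ trivial
    obtain ⟨c, d, hc, hd, h1, -⟩ := hcoord z W.1 W.2 hzW t ht het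
    by_cases hall : ∀ i, c i ∈ (W.2.primeIdealOf ⟨z, hzW⟩).asIdeal
    · exact Or.inr (h1 hall)
    · push Not at hall
      obtain ⟨k, hk⟩ := hall
      exact Or.inl (Set.mem_iUnion.mpr ⟨k, mem_G_of_notMem W.2 het (hc k) hzW hk⟩)
  let V : Set Z := Subtype.val ⁻¹' O₀
  have hV : IsClopen V := by
    refine ⟨?_, (isOpen_iUnion fun k => isOpen_G β J _).preimage continuous_subtype_val⟩
    rw [← isOpen_compl_iff]
    have : Vᶜ = Subtype.val ⁻¹' O₁ := Set.ext fun z =>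
      ⟨fun hn => (hcover z.1 z.2).resolve_left hn, fun h1 h0 => hdisj z.1 z.2 h0 h1⟩
    rw [this]
    exact (isOpen_iUnion fun k => isOpen_G β J _).preimage continuous_subtype_val
  obtain ⟨U, ⟨hU, hUV⟩, -⟩ := ProperClopen.lifts_of_proper I β (j := (Subtype.val : Z → Y))
    Topology.IsEmbedding.subtypeVal Subtype.range_val V hV
  have hzU : ∀ z ∈ Z, (z ∈ U ↔ z ∈ O₀) := fun z hz => Set.ext_iff.mp hUV ⟨z, hz⟩
  let D : Set (PrimeSpectrum A) := (zeroLocus (I : Set A))ᶜ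
  have hJD : ∀ p ∈ D, ¬ J ≤ p.asIdeal := fun p hp hle =>
    hp (show I ≤ p.asIdeal from hIJ.trans (p.isPrime.radical_le_iff.mpr hle))
  let D₀ : Set (PrimeSpectrum A) := D ∩ (β.base '' U)ᶜ
  let D₁ : Set (PrimeSpectrum A) := D ∩ (β.base '' Uᶜ)ᶜ
  refine ⟨D₀, D₁, ⟨(isClosed_zeroLocus _).isOpen_compl.inter (β.isClosedMap _ hU.isClosed).isOpen_compl,
    (isClosed_zeroLocus _).isOpen_compl.inter (β.isClosedMap _ hU.compl.isClosed).isOpen_compl, ?_, ?_⟩, ?_⟩
  · rw [Set.disjoint_left]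
    rintro p ⟨hpD, hp0⟩ ⟨-, hp1⟩
    obtain ⟨y, hy, -⟩ := huniq p (hJD p hpD)
    by_cases hyU : y ∈ U
    · exact hp0 ⟨y, hyU, hy⟩
    · exact hp1 ⟨y, hyU, hy⟩
  · refine Set.Subset.antisymm (Set.union_subset Set.inter_subset_left Set.inter_subset_left) fun p hp => ?_
    obtain ⟨y, hy, hyu⟩ := huniq p (hJD p hp)
    by_cases hyU : y ∈ U
    · exact Or.inr ⟨hp, fun ⟨y', hy', he⟩ => hy' (hyu y' he ▸ hyU)⟩
    · exact Or.inl ⟨hp, fun ⟨y', hy', he⟩ => hyU (hyu y' he ▸ hy')⟩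
  intro Q
  have main : Q ∈ C₀ ∪ C₁ → ∃ y : Y, β.base y = comap φ Q ∧ comap φ Q ∈ D ∧
      (Q ∈ C₁ → y ∈ U) ∧ (Q ∈ C₀ → y ∉ U) := by
    intro hQ
    rw [hC.union] at hQ
    have hQD : comap φ Q ∈ D := fun hle => hQ (show I.map φ ≤ Q.asIdeal from Ideal.map_le_iff_le_comap.mpr hle)
    obtain ⟨y, hy, -⟩ := huniq _ (hJD _ hQD)
    refine ⟨y, hy, hQD, ?_⟩
    obtain ⟨y', hy'1, hy'2⟩ := Scheme.Pullback.exists_preimage_pullback
      (f := β) (g := Spec.map (CommRingCat.ofHom φ)) y Q hy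
    let p := pullback.fst β (Spec.map (CommRingCat.ofHom φ))
    let q := pullback.snd β (Spec.map (CommRingCat.ofHom φ))
    obtain ⟨z, hyz, hzI⟩ := exists_specialization (I.map φ) q hjB y'
    have hcond : p ≫ β = q ≫ Spec.map (CommRingCat.ofHom φ) := pullback.condition
    have hzp : p.base z ∈ Z := by
      have : β.base (p.base z) = comap φ (q.base z) := congrArg (fun m : _ ⟶ Spec (CommRingCat.of A) => m.base z) hcond
      show I ≤ (β.base (p.base z) : PrimeSpectrum A).asIdeal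
      rw [this]
      exact Ideal.map_le_iff_le_comap.mp hzI
    obtain ⟨W, hzW, -, t, ht, het⟩ := hch (p.base z) ⊤ trivial
    obtain ⟨W', hW', hzW', hle⟩ := exists_isAffineOpen_mem_and_subset (show z ∈ p ⁻¹ᵁ W.1 from hzW)
    have hle' : W' ≤ p ⁻¹ᵁ W.1 := hle
    have hy'W : y' ∈ W' := hyz.mem_open W'.2 hzW'
    obtain ⟨c, d, hc, hd, h1, h0⟩ := hcoord (p.base z) W.1 W.2 hzW t ht het
    let ρ := (p.appLE W.1 W' hle').hom
    let σ := γ q W'
    have hcomm : ∀ x, ρ (γ β W.1 x) = σ (φ x) := fun x => by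
      rw [← RingHom.comp_apply, γ_comp p β hle', ← RingHom.comp_apply σ φ, ← γ_specMap]
      rw [hcond]
    set Py := (hW'.primeIdealOf ⟨y', hy'W⟩).asIdeal with hPy
    set Pz := (hW'.primeIdealOf ⟨z, hzW'⟩).asIdeal with hPz
    have hyzP : Py ≤ Pz := prime_mono hW' hyz hy'W hzW'
    have hIz : (I.map φ).map σ ≤ Pz := Ideal.map_le_iff_le_comap.mpr fun x hx =>
      (γ_mem_prime q hW' hzW' x).mpr (hzI hx)
    have hty : ρ t ∉ Py := fun hmem => by
      have h3 := (appLE_mem_prime p W.2 hW' hle' hy'W t).mp hmem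
      refine gen_notMem W.2 het (hle' hy'W) ?_ h3
      rw [hy'1, hy]
      exact hJD _ hQD
    have hmap : ((I * J).map φ).map σ = (I.map φ).map σ * Ideal.span {ρ t} := by
      rw [Ideal.map_mul, Ideal.map_mul, Ideal.map_map φ σ (I := J), show σ.comp φ = ρ.comp (γ β W.1) from
        RingHom.ext fun x => (hcomm x).symm, ← Ideal.map_map, het, Ideal.map_span, Set.image_singleton]
    have key : ∀ i, ∃ δ ∈ Pz, σ (b i) = (ρ (c i) + δ) * ρ t := fun i => by
      have h2 := Ideal.mem_map_of_mem σ (hδ i)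
      rw [hmap, Ideal.mem_mul_span_singleton] at h2
      obtain ⟨δ, hδ', hδt⟩ := h2
      refine ⟨δ, hIz hδ', ?_⟩
      rw [add_mul, ← map_mul, ← hc, hcomm, hδt, map_sub, add_sub_cancel]
    have hQy : ∀ x ∈ Q.asIdeal, σ x ∈ Py := fun x hx => (γ_mem_prime q hW' hy'W x).mpr (by rw [hy'2]; exact hx)
    have hyzU : p.base y' ∈ U ↔ p.base z ∈ U :=
      ⟨fun hh => (hyz.map p.continuous).mem_closed hU.isClosed hh, fun hh => (hyz.map p.continuous).mem_open hU.isOpen hh⟩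
    constructor
    · intro hQ1
      rw [← hy'1, hyzU, hzU _ hzp]
      refine h0 fun i => ?_
      rw [← appLE_mem_prime p W.2 hW' hle' hzW']
      obtain ⟨δ, hδz, hδe⟩ := key i
      have h4 : σ (b i - φ (v i)) = (ρ (c i) + δ - ρ (d i)) * ρ t := by
        rw [map_sub, hδe, ← hcomm, hd, map_mul, sub_mul _ (ρ (d i))]
      have h5 : ρ (c i) + δ - ρ (d i) ∈ Pz := hyzP (((hW'.primeIdealOf ⟨y', hy'W⟩).isPrime.mem_or_mem
        (h4 ▸ hQy _ ((hP Q i).2 hQ1))).resolve_right hty)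
      show ρ (c i - d i) ∈ Pz
      have := sub_mem h5 hδz
      rw [map_sub]
      rwa [show ρ (c i) + δ - ρ (d i) - δ = ρ (c i) - ρ (d i) by ring] at this
    · intro hQ0
      rw [← hy'1, hyzU, hzU _ hzp]
      refine fun hO₀ => hdisj _ hzp hO₀ (h1 fun i => ?_)
      rw [← appLE_mem_prime p W.2 hW' hle' hzW']
      obtain ⟨δ, hδz, hδe⟩ := key i
      have h5 : ρ (c i) + δ ∈ Pz := hyzP (((hW'.primeIdealOf ⟨y', hy'W⟩).isPrime.mem_or_mem
        (hδe ▸ hQy _ ((hP Q i).1 hQ0))).resolve_right hty)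
      show ρ (c i) ∈ Pz
      simpa using sub_mem h5 hδz
  constructor
  · intro hQ1
    obtain ⟨y, hy, hD, h1, -⟩ := main (Or.inr hQ1)
    exact ⟨hD, fun ⟨y', hy', he⟩ => hy' ((huniq _ (hJD _ hD)).unique hy he ▸ h1 hQ1)⟩
  · intro hQ0
    obtain ⟨y, hy, hD, -, h0⟩ := main (Or.inl hQ0)
    exact ⟨hD, fun ⟨y', hy', he⟩ => h0 hQ0 ((huniq _ (hJD _ hD)).unique he hy ▸ hy')⟩

/-- **Uniqueness**: a split downstairs which is trivial upstairs is trivial. -/
theorem eq_empty_of_split (hjA : I ≤ Ideal.jacobson ⊥) (h : Approx φ I) (hI : I.FG)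
    {C₀ C₁ : Set (PrimeSpectrum A)} (hC : Split I C₀ C₁) (hemp : ∀ P : PrimeSpectrum B, comap φ P ∉ C₁) :
    C₁ = ∅ := by
  obtain ⟨ι, _, b, v, e, J, hJ, hJI, hIJ, hJfg, hbe, hP⟩ := exists_small h hI hC hemp
  rw [Set.eq_empty_iff_forall_notMem]
  intro p hp
  have hpD : ¬ I ≤ p.asIdeal := by
    have : p ∈ C₀ ∪ C₁ := Or.inr hp
    rw [hC.union] at this
    exact this
  obtain ⟨Y, β, hβ, hch, huniq⟩ := exists_blow J hJfg
  have hJp : ¬ J ≤ p.asIdeal := fun hle => hpD (hIJ.trans (p.isPrime.radical_le_iff.mpr hle))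
  obtain ⟨y, hy, -⟩ := huniq p hJp
  obtain ⟨z, hyz, hzI⟩ := exists_specialization I β hjA y
  obtain ⟨W, hzW, -, t, ht, het⟩ := hch z ⊤ trivial
  have hyW : y ∈ W.1 := hyz.mem_open W.1.2 hzW
  obtain ⟨c, d, hc, hd, hne⟩ := exists_coords (γ β W.1) hJ ht het
  set Pz := (W.2.primeIdealOf ⟨z, hzW⟩).asIdeal with hPz
  have hIz : I.map (γ β W.1) ≤ Pz := Ideal.map_le_iff_le_comap.mpr fun x hx => (γ_mem_prime β W.2 hzW x).mpr (hzI hx)
  have hty := gen_notMem W.2 het hyW (by rw [hy]; exact hJp)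
  have hcz : ∀ i, c i ∈ Pz := fun i => by
    have h2 := Ideal.mem_map_of_mem (γ β W.1) (hbe i)
    rw [Ideal.map_mul, Ideal.map_pow, het, Ideal.span_singleton_pow, Ideal.mem_mul_span_singleton] at h2
    obtain ⟨w, hw, hwt⟩ := h2
    have h3 : w = c i ^ e := (mul_cancel_right_mem_nonZeroDivisors (pow_mem ht e)).mp
      (hwt.trans (by rw [map_pow, hc, mul_pow]))
    exact (W.2.primeIdealOf ⟨z, hzW⟩).isPrime.mem_of_pow_mem e (h3 ▸ hIz hw)
  refine hne Pz (W.2.primeIdealOf ⟨z, hzW⟩).isPrime.ne_top hcz fun i => ?_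
  have h4 : (c i - d i) * t ∈ (W.2.primeIdealOf ⟨y, hyW⟩).asIdeal := by
    rw [sub_mul, ← hc, ← hd, ← map_sub, γ_mem_prime, hy]
    exact hP p i hp
  have h5 := prime_mono W.2 hyz hyW hzW (((W.2.primeIdealOf ⟨y, hyW⟩).isPrime.mem_or_mem h4).resolve_right hty)
  simpa using sub_mem (hcz i) h5

theorem Approx.exists_eq_comap (h : Approx φ I) {p : PrimeSpectrum A} (hp : I ≤ p.asIdeal) :
    ∃! Q : PrimeSpectrum B, comap φ Q = p := by
  have hle : ∀ Q : PrimeSpectrum B, I ≤ Q.asIdeal.comap φ → Q.asIdeal = (Q.asIdeal.comap φ).map φ := fun Q hQ => by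
    refine le_antisymm (fun b hb => ?_) Ideal.map_comap_le
    obtain ⟨a, ha⟩ := h.surj 1 b
    rw [pow_one] at ha
    have h2 : φ a ∈ Q.asIdeal := by
      simpa using sub_mem hb (Ideal.map_le_iff_le_comap.mpr hQ ha)
    rw [← sub_add_cancel b (φ a)]
    exact add_mem (Ideal.map_mono hQ ha) (Ideal.mem_map_of_mem φ h2)
  have hcm : (p.asIdeal.map φ).comap φ = p.asIdeal := by
    refine le_antisymm (fun x hx => ?_) Ideal.le_comap_map
    obtain ⟨a, ha, hxa⟩ := h.exists_of_mem_map 1 hx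
    have h1 : x - a ∈ I ^ 1 := h.inj 1 (by rw [Ideal.mem_comap, map_sub]; exact hxa)
    rw [← sub_add_cancel x a]
    exact add_mem (hp (pow_one I ▸ h1)) ha
  have hprime : (p.asIdeal.map φ).IsPrime := by
    refine ⟨fun htop => p.isPrime.ne_top (by rw [← hcm, htop, Ideal.comap_top]), fun {x y} hxy => ?_⟩
    obtain ⟨a, ha⟩ := h.surj 1 x
    obtain ⟨b, hb⟩ := h.surj 1 y
    rw [pow_one] at ha hb
    have hI' : I.map φ ≤ p.asIdeal.map φ := Ideal.map_mono hp
    have h2 : a * b ∈ p.asIdeal := hcm ▸ (by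
      rw [Ideal.mem_comap, map_mul, show φ a * φ b = x * y - ((x - φ a) * y + φ a * (y - φ b)) by ring]
      exact sub_mem hxy (add_mem (Ideal.mul_mem_right _ _ (hI' ha)) (Ideal.mul_mem_left _ _ (hI' hb))))
    rcases p.isPrime.mem_or_mem h2 with h3 | h3
    · left; simpa using add_mem (hI' ha) (Ideal.mem_map_of_mem φ h3)
    · right; simpa using add_mem (hI' hb) (Ideal.mem_map_of_mem φ h3)
  refine ⟨⟨_, hprime⟩, PrimeSpectrum.ext hcm, fun Q hQ => PrimeSpectrum.ext ?_⟩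
  subst hQ
  exact hle Q hp

/-- **Existence** over an open containing the complement of `V(I)`. -/
theorem exists_clopen_of_open [HenselianRing A I] (hjB : I.map φ ≤ Ideal.jacobson ⊥) (h : Approx φ I) (hI : I.FG)
    {U : Set (PrimeSpectrum A)} (hU : IsOpen U) (hUI : ∀ p, ¬ I ≤ p.asIdeal → p ∈ U)
    {C₀ C₁ : Set (PrimeSpectrum B)} (h0 : IsOpen C₀) (h1 : IsOpen C₁) (hd : Disjoint C₀ C₁)
    (hu : C₀ ∪ C₁ = comap φ ⁻¹' U) :
    ∃ E₀ E₁ : Set (PrimeSpectrum A), IsOpen E₀ ∧ IsOpen E₁ ∧ Disjoint E₀ E₁ ∧ E₀ ∪ E₁ = U ∧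
      comap φ ⁻¹' E₁ = C₁ := by
  let Dset : Set (PrimeSpectrum B) := (zeroLocus ((I.map φ : Ideal B) : Set B))ᶜ
  have hDopen : IsOpen Dset := (isClosed_zeroLocus _).isOpen_compl
  have hDU : ∀ Q ∈ Dset, comap φ Q ∈ U := fun Q hQ => hUI _ fun hle => hQ
    (show I.map φ ≤ Q.asIdeal from Ideal.map_le_iff_le_comap.mpr hle)
  have hS : Split (I.map φ) (C₀ ∩ Dset) (C₁ ∩ Dset) :=
    ⟨h0.inter hDopen, h1.inter hDopen, hd.mono Set.inter_subset_left Set.inter_subset_left, by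
      rw [← Set.union_inter_distrib_right, hu]
      exact Set.inter_eq_right.mpr hDU⟩
  obtain ⟨D₀, D₁, hD, hDC⟩ := exists_split hjB h hI hS
  let E : Set (PrimeSpectrum B) → Set (PrimeSpectrum A) → Set (PrimeSpectrum A) := fun C D =>
    D ∪ {p | I ≤ p.asIdeal ∧ ∃ Q ∈ C, comap φ Q = p}
  have hDsub : ∀ {p}, p ∈ D₀ ∪ D₁ → ¬ I ≤ p.asIdeal := fun {p} hp => by rw [hD.union] at hp; exact hp
  -- generalisations keep the colour
  have hgen : ∀ {C C' : Set (PrimeSpectrum B)} {D D' : Set (PrimeSpectrum A)}, IsOpen C → Split I D D' →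
      (∀ P, P ∈ C' ∩ Dset → comap φ P ∈ D') → (∀ P ∈ Dset, P ∈ C ∪ C') → Disjoint C C' →
      (∀ P, P ∈ C ∩ Dset → comap φ P ∈ D) →
      ∀ (k : PrimeSpectrum A) (Q : PrimeSpectrum B), k ∈ D' → Q ∈ C → I ≤ Q.asIdeal.comap φ →
        ¬ k.asIdeal ≤ Q.asIdeal.comap φ := by
    intro C C' D D' hCo hDD hC' hcov hCC hC k Q hk hQ hIQ hkQ
    have hk' : ¬ I ≤ k.asIdeal := by
      have : k ∈ D ∪ D' := Or.inr hk
      rw [hDD.union] at this; exact this
    obtain ⟨P, hPQ, hkP, hIP⟩ := exists_prime_above h hI k Q (Ideal.map_le_iff_le_comap.mpr hIQ) hkQ hk'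
    have hPD : P ∈ Dset := fun hle => hIP (Ideal.map_le_iff_le_comap.mp hle)
    have hPC : P ∈ C := ((PrimeSpectrum.le_iff_specializes P Q).mp hPQ).mem_open hCo hQ
    have hPk : comap φ P ∈ D' := by
      have hs : k ⤳ comap φ P := (PrimeSpectrum.le_iff_specializes _ _).mp hkP
      rcases hDD.mem_or (P := comap φ P) hIP with hh | hh
      · exact absurd (hs.mem_open hDD.isOpen₀ hh) (Set.disjoint_right.mp hDD.disj hk)
      · exact hh
    exact Set.disjoint_left.mp hDD.disj (hC P ⟨hPC, hPD⟩) hPk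
  have hopen : ∀ {C C' : Set (PrimeSpectrum B)} {D D' : Set (PrimeSpectrum A)}, IsOpen C → IsOpen C' → Split I D D' →
      Disjoint C C' → C ∪ C' = comap φ ⁻¹' U →
      (∀ P, P ∈ C' ∩ Dset → comap φ P ∈ D') → (∀ P, P ∈ C ∩ Dset → comap φ P ∈ D) → IsOpen (E C D) := by
    intro C C' D D' hCo hCo' hDD hCC hCU hC' hC
    rw [isOpen_iff_forall_mem_open]
    rintro p (hp | ⟨hpI, Q, hQ, rfl⟩)
    · exact ⟨D, Set.subset_union_left, hDD.isOpen₀, hp⟩
    -- a basic neighbourhood inside `U`, contained in `C` on the closed part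
    have hQU : comap φ Q ∈ U := by
      have : Q ∈ C ∪ C' := Or.inl hQ
      rw [hCU] at this; exact this
    obtain ⟨_, ⟨g₁, rfl⟩, hg₁, hg₁U⟩ := isTopologicalBasis_basic_opens.exists_subset_of_mem_open hQU hU
    obtain ⟨_, ⟨gB, rfl⟩, hgB, hgBC⟩ := isTopologicalBasis_basic_opens.exists_subset_of_mem_open hQ hCo
    obtain ⟨g₂, hg₂⟩ := h.surj 1 gB
    rw [pow_one] at hg₂
    let g := g₁ * g₂
    have hgQ : g ∉ Q.asIdeal.comap φ := by
      intro hmem
      rcases (inferInstance : (Q.asIdeal.comap φ).IsPrime).mem_or_mem hmem with hm | hm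
      · exact hg₁ hm
      · exact hgB (by simpa using add_mem (Ideal.map_le_iff_le_comap.mpr hpI hg₂) hm)
    -- the other part is a finite union of basic opens near the point
    have hK : IsCompact ((basicOpen g : Set (PrimeSpectrum A)) ∩ D') := by
      have e : (basicOpen g : Set (PrimeSpectrum A)) ∩ D' =
          ((basicOpen g : Set (PrimeSpectrum A)) ∩ (D ∪ D')) ∩ Dᶜ := by
        ext x
        exact ⟨fun hx => ⟨⟨hx.1, Or.inr hx.2⟩, Set.disjoint_right.mp hDD.disj hx.2⟩,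
          fun hx => ⟨hx.1.1, hx.1.2.resolve_left hx.2⟩⟩
      rw [e]
      refine IsCompact.inter_right ?_ hDD.isOpen₀.isClosed_compl
      rw [hDD.union]
      obtain ⟨T, hT⟩ := hI
      have e2 : (basicOpen g : Set (PrimeSpectrum A)) ∩ (zeroLocus (I : Set A))ᶜ =
          ⋃ f ∈ (T : Set A), (basicOpen (g * f) : Set (PrimeSpectrum A)) := by
        rw [← hT, zeroLocus_span]
        ext x
        simp only [Set.mem_inter_iff, Set.mem_compl_iff, mem_zeroLocus, Set.subset_def, Set.mem_iUnion,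
          SetLike.mem_coe, PrimeSpectrum.mem_basicOpen, not_forall, exists_prop]
        exact ⟨fun ⟨hg, f, hf, hfx⟩ => ⟨f, hf, fun hm => (x.isPrime.mem_or_mem hm).elim hg hfx⟩,
          fun ⟨f, hf, hm⟩ => ⟨fun hg => hm (Ideal.mul_mem_right _ _ hg), f, hf, fun hfx => hm (Ideal.mul_mem_left _ _ hfx)⟩⟩
      rw [e2]
      exact T.finite_toSet.isCompact_biUnion fun f _ => isCompact_basicOpen _
    have hnot : comap φ Q ∉ closure ((basicOpen g : Set (PrimeSpectrum A)) ∩ D') := by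
      obtain ⟨s, hsfin, hsK⟩ := (isCompact_open_iff_eq_finite_iUnion_of_isTopologicalBasis
        (fun f : A => (basicOpen f : Set (PrimeSpectrum A))) isTopologicalBasis_basic_opens
        (fun f => isCompact_basicOpen f) _).mp ⟨hK, (basicOpen g).2.inter hDD.isOpen₁⟩
      rw [hsK, hsfin.closure_biUnion]
      intro hmem
      obtain ⟨f, hf, hfc⟩ := Set.mem_iUnion₂.mp hmem
      -- a generalisation in the closure
      have hd : Disjoint ((⊥ : Ideal A) : Set A)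
          ((Submonoid.powers f ⊔ (Q.asIdeal.comap φ).primeCompl : Submonoid A) : Set A) := by
        rw [Set.disjoint_left]
        intro x hx hxS
        obtain ⟨_, ⟨n, rfl⟩, r, hr, hxe⟩ := Submonoid.mem_sup.mp hxS
        rw [show x = 0 from hx] at hxe
        obtain ⟨k, hk1, hk2⟩ := mem_closure_iff.mp hfc (basicOpen r) (basicOpen r).2 hr
        rcases k.isPrime.mem_or_mem (hxe ▸ k.asIdeal.zero_mem : f ^ n * r ∈ k.asIdeal) with hh | hh
        · exact hk2 (k.isPrime.mem_of_pow_mem n hh)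
        · exact hk1 hh
      obtain ⟨k, hkp, -, hkS⟩ := Ideal.exists_le_prime_disjoint _ _ hd
      have hkD : (⟨k, hkp⟩ : PrimeSpectrum A) ∈ (basicOpen g : Set (PrimeSpectrum A)) ∩ D' := by
        rw [hsK]
        exact Set.mem_biUnion hf fun hm => Set.disjoint_left.mp hkS hm (Submonoid.mem_sup_left (Submonoid.mem_powers f))
      refine hgen hCo hDD hC' ?_ hCC hC ⟨k, hkp⟩ Q hkD.2 hQ hpI fun x hx => ?_
      · intro P hP
        rw [hCU]; exact hDU P hP
      · by_contra hxn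
        exact Set.disjoint_left.mp hkS hx (Submonoid.mem_sup_right hxn)
    refine ⟨(basicOpen g : Set (PrimeSpectrum A)) ∩ (closure ((basicOpen g : Set (PrimeSpectrum A)) ∩ D'))ᶜ,
      ?_, (basicOpen g).2.inter isClosed_closure.isOpen_compl, hgQ, hnot⟩
    rintro x ⟨hxg, hxc⟩
    by_cases hxI : I ≤ x.asIdeal
    · obtain ⟨Q', hQ', -⟩ := Approx.exists_eq_comap h hxI
      refine Or.inr ⟨hxI, Q', hgBC ?_, hQ'⟩
      intro hmem
      refine hxg (Ideal.mul_mem_left _ _ ?_)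
      rw [← hQ']
      show φ g₂ ∈ Q'.asIdeal
      have : (I.map φ) ≤ Q'.asIdeal := Ideal.map_le_iff_le_comap.mpr (by rw [← hQ'] at hxI; exact hxI)
      simpa using sub_mem hmem (this hg₂)
    · rcases hDD.mem_or hxI with hh | hh
      · exact Or.inl hh
      · exact absurd (subset_closure (show x ∈ (basicOpen g : Set (PrimeSpectrum A)) ∩ D' from ⟨hxg, hh⟩)) hxc
  refine ⟨E C₀ D₀, E C₁ D₁, hopen h0 h1 hD hd hu (fun P => (hDC P).1) (fun P => (hDC P).2),
    hopen h1 h0 hD.symm hd.symm (by rw [Set.union_comm]; exact hu) (fun P => (hDC P).2)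
      (fun P => (hDC P).1), ?_, ?_, ?_⟩
  · rw [Set.disjoint_left]
    rintro p (hp | ⟨hpI, Q, hQ, rfl⟩) (hp' | ⟨hpI', Q', hQ', he⟩)
    · exact Set.disjoint_left.mp hD.disj hp hp'
    · exact hDsub (Or.inl hp) hpI'
    · exact hDsub (Or.inr hp') hpI
    · exact Set.disjoint_left.mp hd hQ ((Approx.exists_eq_comap h hpI).unique rfl he ▸ hQ')
  · ext p
    constructor
    · rintro ((hp | ⟨-, Q, hQ, rfl⟩) | (hp | ⟨-, Q, hQ, rfl⟩))
      · exact hUI p (hDsub (Or.inl hp))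
      · exact Set.ext_iff.mp hu Q |>.mp (Or.inl hQ)
      · exact hUI p (hDsub (Or.inr hp))
      · exact Set.ext_iff.mp hu Q |>.mp (Or.inr hQ)
    · intro hp
      by_cases hpI : I ≤ p.asIdeal
      · obtain ⟨Q, rfl, -⟩ := Approx.exists_eq_comap h hpI
        rcases (Set.ext_iff.mp hu Q).mpr hp with hh | hh
        · exact Or.inl (Or.inr ⟨hpI, Q, hh, rfl⟩)
        · exact Or.inr (Or.inr ⟨hpI, Q, hh, rfl⟩)
      · rcases hD.mem_or hpI with hh | hh
        · exact Or.inl (Or.inl hh)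
        · exact Or.inr (Or.inl hh)
  · ext Q
    constructor
    · rintro (hh | ⟨hI', Q', hQ', he⟩)
      · have hQD : Q ∈ Dset := fun hle => hDsub (Or.inr hh) (Ideal.map_le_iff_le_comap.mp hle)
        rcases (Set.ext_iff.mp hu Q).mpr (hDU Q hQD) with hc | hc
        · exact absurd hh (Set.disjoint_left.mp hD.disj ((hDC Q).2 ⟨hc, hQD⟩))
        · exact hc
      · exact (Approx.exists_eq_comap h hI').unique he rfl ▸ hQ'
    · intro hQ
      by_cases hQD : Q ∈ Dset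
      · exact Or.inl ((hDC Q).1 ⟨hQ, hQD⟩)
      · exact Or.inr ⟨Ideal.map_le_iff_le_comap.mp (not_not.mp hQD), Q, hQ, rfl⟩

/-- **Uniqueness** over an open containing the complement of `V(I)`. -/
theorem eq_of_preimage_eq (hjA : I ≤ Ideal.jacobson ⊥) (h : Approx φ I) (hI : I.FG)
    {U : Set (PrimeSpectrum A)} (hUI : ∀ p, ¬ I ≤ p.asIdeal → p ∈ U)
    {E₀ E₁ F₀ F₁ : Set (PrimeSpectrum A)} (e0 : IsOpen E₀) (e1 : IsOpen E₁) (ed : Disjoint E₀ E₁) (eu : E₀ ∪ E₁ = U)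
    (f0 : IsOpen F₀) (f1 : IsOpen F₁) (fd : Disjoint F₀ F₁) (fu : F₀ ∪ F₁ = U)
    (he : comap φ ⁻¹' E₁ = comap φ ⁻¹' F₁) : E₁ ⊆ F₁ := by
  intro p hp
  have hpU : p ∈ F₀ ∪ F₁ := by rw [fu, ← eu]; exact Or.inr hp
  refine hpU.resolve_left fun hp0 => ?_
  by_cases hpI : I ≤ p.asIdeal
  · obtain ⟨Q, rfl, -⟩ := Approx.exists_eq_comap h hpI
    exact Set.disjoint_left.mp fd hp0 ((Set.ext_iff.mp he Q).mp hp)
  let D : Set (PrimeSpectrum A) := (zeroLocus (I : Set A))ᶜ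
  have hDo : IsOpen D := (isClosed_zeroLocus _).isOpen_compl
  have hS : Split I ((E₀ ∪ F₁) ∩ D) (E₁ ∩ F₀ ∩ D) := by
    refine ⟨(e0.union f1).inter hDo, (e1.inter f0).inter hDo, Set.disjoint_left.mpr ?_, ?_⟩
    · rintro x ⟨hx | hx, -⟩ ⟨⟨hx1, hx0⟩, -⟩
      · exact Set.disjoint_left.mp ed hx hx1
      · exact Set.disjoint_left.mp fd hx0 hx
    · ext x
      refine ⟨fun hx => hx.elim (fun h => h.2) fun h => h.2, fun hx => ?_⟩
      have hxU := hUI x hx
      rcases (show x ∈ E₀ ∪ E₁ from eu ▸ hxU) with a | a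
      · exact Or.inl ⟨Or.inl a, hx⟩
      rcases (show x ∈ F₀ ∪ F₁ from fu ▸ hxU) with b | b
      · exact Or.inr ⟨⟨a, b⟩, hx⟩
      · exact Or.inl ⟨Or.inr b, hx⟩
  have := eq_empty_of_split hjA h hI hS fun P hP =>
    Set.disjoint_left.mp fd hP.1.2 ((Set.ext_iff.mp he P).mp hP.1.1)
  have hmem : p ∈ E₁ ∩ F₀ ∩ D := ⟨⟨hp, hp0⟩, hpI⟩
  rw [this] at hmem
  exact hmem

theorem approx_adicCompletion {A : Type u} [CommRing A] {I : Ideal A} (hI : I.FG) :
    Approx (algebraMap A (AdicCompletion I A)) I := by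
  have hker : ∀ (n : ℕ) (x : AdicCompletion I A),
      x ∈ (I ^ n).map (algebraMap A (AdicCompletion I A)) ↔ AdicCompletion.eval I A n x = 0 := fun n x => by
    rw [← LinearMap.mem_ker, ← AdicCompletion.pow_smul_top_eq_ker_eval hI, Ideal.smul_top_eq_map]
    rfl
  refine ⟨fun n b => ?_, fun n a ha => ?_⟩
  · obtain ⟨a, ha⟩ := Submodule.Quotient.mk_surjective _ (AdicCompletion.eval I A n b)
    refine ⟨a, (hker n _).mpr ?_⟩
    rw [map_sub, ← ha, sub_eq_zero]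
    rfl
  · have h1 := (hker n _).mp ha
    have h2 : (Submodule.Quotient.mk a : A ⧸ (I ^ n • ⊤ : Submodule A A)) = 0 := h1
    rw [Submodule.Quotient.mk_eq_zero] at h2
    simpa using h2

theorem jacobson_adicCompletion {A : Type u} [CommRing A] {I : Ideal A} (hI : I.FG) :
    I.map (algebraMap A (AdicCompletion I A)) ≤ Ideal.jacobson ⊥ := by
  have h0 : IsAdicComplete I (AdicCompletion I A) := AdicCompletion.isAdicComplete hI
  have : IsAdicComplete (I.map (algebraMap A (AdicCompletion I A))) (AdicCompletion I A) :=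
    (IsAdicComplete.map_algebraMap_iff (S := AdicCompletion I A) (I := I) (M := AdicCompletion I A)).2 h0
  exact IsAdicComplete.le_jacobson_bot _

end Groth.Agent.Lib.Henselian.Gabber.Main
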